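import Groth.Agent.QCohBase.Criterion
import Groth.Agent.QCohBase.Acyclic
import Groth.Prelude.Def_Coh
import Mathlib.RingTheory.Noetherian.Basic
import Mathlib.Algebra.Homology.HomologySequenceLemmas

/-!
# Cech comparison compatible with endomorphisms; finiteness criteria
-/

noncomputable section

universe u

open CategoryTheory Limits TopologicalSpace Opposite HomologicalComplex AlgebraicGeometry

namespace Groth.Agent.CechLinear

open Groth.Agent.QCohBase Groth.Agent.QCohBase.CovSystem

variable {X : TopCat.{u}} {S : CovSystem X} {ι : Type u} (V : ι → Opens X)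

/-- The Cech comparison, compatible with endomorphisms. -/
theorem exists_cech_equiv {F : AbSheaf X} (hF : S.Acyclic F)
    (hcov : ⨆ k, V k = ⊤) (hV : ∀ (n : ℕ) (i : Fin (n + 1) → ι), S.B (inter V i)) (p : ℕ) :
    ∃ e : (cech V F.obj).homology p ≃+ HTop F p, ∀ (φ : F ⟶ F) (x : (cech V F.obj).homology p),
      e (homologyMap ((cechSheafFunctor V).map φ) p x) = CategoryTheory.Sheaf.H.map φ p (e x) := by
  induction p generalizing F with
  | zero =>
    refine ⟨(AddEquiv.ofBijective _ (sectionsToCech_bijective V hcov F)).symm.trans (hZero F).symm,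
      fun φ x => ?_⟩
    obtain ⟨s, rfl⟩ := (sectionsToCech_bijective V hcov F).2 x
    have h := ConcreteCategory.congr_hom (sectionsToCech_naturality V φ.hom) s
    simp only [ConcreteCategory.comp_apply] at h
    have h' : homologyMap ((cechSheafFunctor V).map φ) 0 (sectionsToCech V F.obj s) =
        sectionsToCech V F.obj (φ.hom.app (op ⊤) s) := h.symm
    simp only [AddEquiv.trans_apply]
    rw [h', show (AddEquiv.ofBijective _ (sectionsToCech_bijective V hcov F)).symm
        (sectionsToCech V F.obj (φ.hom.app (op ⊤) s)) = φ.hom.app (op ⊤) s from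
        AddEquiv.symm_apply_apply (AddEquiv.ofBijective _ (sectionsToCech_bijective V hcov F)) _,
      show (AddEquiv.ofBijective _ (sectionsToCech_bijective V hcov F)).symm
        (sectionsToCech V F.obj s) = s from
        AddEquiv.symm_apply_apply (AddEquiv.ofBijective _ (sectionsToCech_bijective V hcov F)) _]
    exact (CategoryTheory.Sheaf.H.equiv₀_symm_naturality isTerminalTop φ s).symm
  | succ p ih =>
    have hT := injSeq_shortExact F
    have hC := cech_shortExact hT hF V hV
    have hzero : ∀ q, IsZero ((cech V (injSeq F).X₂.obj).homology (q + 1)) := fun q =>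
      (exactAt_iff_isZero_homology _ _).1 (cechAcyclic_of_injective V (injSeq F).X₂ q)
    have hext : ∀ φ : F ⟶ F, ∃ f : injSeq F ⟶ injSeq F, f.τ₁ = φ := fun φ => by
      haveI : Mono (injSeq F).f := hT.mono_f
      let φ₂ : (injSeq F).X₂ ⟶ (injSeq F).X₂ :=
        Injective.factorThru (φ ≫ (injSeq F).f) (injSeq F).f
      have h₂ : (injSeq F).f ≫ φ₂ = φ ≫ (injSeq F).f := Injective.comp_factorThru _ _
      exact ⟨ShortComplex.homMk φ φ₂ (cokernel.map (Injective.ι F) (Injective.ι F) φ φ₂ h₂) h₂.symm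
        (cokernel.π_desc _ _ _).symm, rfl⟩
    have hδ : ∀ (q : ℕ) (f : injSeq F ⟶ injSeq F) (x : HTop (injSeq F).X₃ q),
        hDelta hT q (CategoryTheory.Sheaf.H.map f.τ₃ q x) =
          CategoryTheory.Sheaf.H.map f.τ₁ (q + 1) (hDelta hT q x) := by
      intro q f x
      show Abelian.Ext.comp (Abelian.Ext.comp x (Abelian.Ext.mk₀ f.τ₃) (add_zero q)) hT.extClass rfl =
        Abelian.Ext.comp (Abelian.Ext.comp x hT.extClass rfl) (Abelian.Ext.mk₀ f.τ₁) (add_zero (q + 1))
      rw [Abelian.Ext.comp_assoc _ _ _ _ _ (by omega),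
        Abelian.Ext.comp_assoc _ _ _ _ (add_zero 1) (by omega)]
      congr 1
      exact (ShortComplex.ShortExact.extClass_naturality hT hT f).symm
    have hδC : ∀ (q : ℕ) (f : injSeq F ⟶ injSeq F) (x : (cech V (injSeq F).X₃.obj).homology q),
        hC.δ q (q + 1) rfl (homologyMap ((cechSheafFunctor V).map f.τ₃) q x) =
          homologyMap ((cechSheafFunctor V).map f.τ₁) (q + 1) (hC.δ q (q + 1) rfl x) := fun q f x =>
      (ConcreteCategory.congr_hom (HomologicalComplex.HomologySequence.δ_naturality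
        ((cechSheafFunctor V).mapShortComplex.map f) hC hC q (q + 1) rfl) x).symm
    cases p with
    | succ q =>
      obtain ⟨e, he⟩ := ih (acyclic_cokernel hT hF)
      let δe := (hC.δIso (q + 1) (q + 2) rfl (hzero q) (hzero _))
      refine ⟨δe.symm.addCommGroupIsoToAddEquiv.trans
        (e.trans (AddEquiv.ofBijective (hDelta hT (q + 1))
          ⟨hDelta_injective hT q, hDelta_surjective hT (q + 1)⟩)), fun φ x => ?_⟩
      obtain ⟨f, rfl⟩ := hext φ
      obtain ⟨y, rfl⟩ : ∃ y, δe.hom y = x := ⟨δe.inv x, by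
        rw [← ConcreteCategory.comp_apply, Iso.inv_hom_id]; rfl⟩
      have h1 : δe.inv (δe.hom y) = y := by
        rw [← ConcreteCategory.comp_apply, Iso.hom_inv_id]; rfl
      have h2 : δe.inv (homologyMap ((cechSheafFunctor V).map f.τ₁) (q + 2) (δe.hom y)) =
          homologyMap ((cechSheafFunctor V).map f.τ₃) (q + 1) y := by
        rw [show homologyMap ((cechSheafFunctor V).map f.τ₁) (q + 2) (δe.hom y) =
          δe.hom (homologyMap ((cechSheafFunctor V).map f.τ₃) (q + 1) y) from (hδC (q + 1) f y).symm,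
          ← ConcreteCategory.comp_apply, Iso.hom_inv_id]
        rfl
      show hDelta hT (q + 1) (e (δe.inv _)) =
        CategoryTheory.Sheaf.H.map f.τ₁ (q + 2) (hDelta hT (q + 1) (e (δe.inv (δe.hom y))))
      rw [h2, h1, he, hδ]
    | zero =>
      let Q := (injSeq F).X₃
      let δC : (cech V Q.obj).homology 0 ⟶ (cech V F.obj).homology 1 := hC.δ 0 1 rfl
      let ψ₁ : Q.obj.obj (op ⊤) →+ (cech V F.obj).homology 1 :=
        (sectionsToCech V Q.obj ≫ δC).hom
      let ψ₂ : Q.obj.obj (op ⊤) →+ HTop F 1 :=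
        (hDelta hT 0).comp (hZero Q).symm.toAddMonoidHom
      have hex1 := (ShortComplex.ab_exact_iff _).1 (hC.homology_exact₁ 0 1 rfl)
      have hex3 := (ShortComplex.ab_exact_iff _).1 (hC.homology_exact₃ 0 1 rfl)
      have hψ₁ : Function.Surjective ψ₁ := fun x => by
        obtain ⟨y, rfl⟩ := hex1 x (ConcreteCategory.congr_hom
          ((hzero 0).eq_of_tgt (homologyMap ((injSeq F).map (cechSheafFunctor V)).f 1) 0) x)
        obtain ⟨z, rfl⟩ := (sectionsToCech_bijective V hcov Q).2 y
        exact ⟨z, rfl⟩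
      have hψ₂ : Function.Surjective ψ₂ :=
        (hDelta_surjective hT 0).comp (hZero Q).symm.surjective
      have hker : ψ₁.ker = ψ₂.ker := by
        ext s
        rw [AddMonoidHom.mem_ker, AddMonoidHom.mem_ker]
        refine Iff.trans ⟨fun h => ?_, ?_⟩ (hDelta_zero_iff hT s).symm
        · obtain ⟨y, hy⟩ := hex3 _ h
          obtain ⟨t, rfl⟩ := (sectionsToCech_bijective V hcov (injSeq F).X₂).2 y
          exact ⟨t, (sectionsToCech_bijective V hcov Q).1 ((ConcreteCategory.congr_hom
            (sectionsToCech_naturality V (injSeq F).g.hom) t).trans hy)⟩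
        · rintro ⟨t, rfl⟩
          refine (congrArg δC (ConcreteCategory.congr_hom
            (sectionsToCech_naturality V (injSeq F).g.hom) t)).trans ?_
          exact ConcreteCategory.congr_hom (hC.comp_δ 0 1 rfl) (sectionsToCech V _ t)
      let e := ((QuotientAddGroup.quotientKerEquivOfSurjective ψ₁ hψ₁).symm.trans
        (QuotientAddGroup.quotientAddEquivOfEq hker)).trans
        (QuotientAddGroup.quotientKerEquivOfSurjective ψ₂ hψ₂)
      have he : ∀ s, e (ψ₁ s) = ψ₂ s := fun s => by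
        simp only [e, AddEquiv.trans_apply]
        rw [show (QuotientAddGroup.quotientKerEquivOfSurjective ψ₁ hψ₁).symm (ψ₁ s) =
          QuotientAddGroup.mk s from (AddEquiv.symm_apply_eq _).2 rfl]
        rfl
      refine ⟨e, fun φ x => ?_⟩
      obtain ⟨f, rfl⟩ := hext φ
      obtain ⟨s, rfl⟩ := hψ₁ x
      have h1 : homologyMap ((cechSheafFunctor V).map f.τ₁) 1 (ψ₁ s) =
          ψ₁ (f.τ₃.hom.app (op ⊤) s) := by
        refine (hδC 0 f (sectionsToCech V Q.obj s)).symm.trans (congrArg δC ?_)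
        exact (ConcreteCategory.congr_hom (sectionsToCech_naturality V f.τ₃.hom) s).symm
      rw [h1, he, he]
      show hDelta hT 0 ((hZero Q).symm (f.τ₃.hom.app (op ⊤) s)) =
        CategoryTheory.Sheaf.H.map f.τ₁ 1 (hDelta hT 0 ((hZero Q).symm s))
      rw [← hδ]
      exact congrArg (hDelta hT 0)
        (CategoryTheory.Sheaf.H.equiv₀_symm_naturality isTerminalTop f.τ₃ s).symm

/-- The class map on cycles. -/
theorem exists_cycleMap (K : CochainComplex AddCommGrpCat.{u} ℕ) (p : ℕ) :
    ∃ ψ : AddMonoidHom.ker (K.d p (p + 1)).hom →+ K.homology p, Function.Surjective ψ ∧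
      (∀ (Φ : K ⟶ K) (z w : AddMonoidHom.ker (K.d p (p + 1)).hom), w.1 = Φ.f p z.1 →
        ψ w = homologyMap Φ p (ψ z)) ∧
      ∀ (q : ℕ) (_ : q + 1 = p) (u : K.X q), ∃ h : K.d q p u ∈ AddMonoidHom.ker (K.d p (p + 1)).hom,
        ψ ⟨K.d q p u, h⟩ = 0 := by
  let j : AddCommGrpCat.of (AddMonoidHom.ker (K.d p (p + 1)).hom) ⟶ K.X p :=
    AddCommGrpCat.ofHom (AddSubgroup.subtype _)
  have hj : j ≫ K.d p (p + 1) = 0 := AddCommGrpCat.ext fun x => x.2
  let l := K.liftCycles j (p + 1) (by simp) hj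
  have hli : ∀ z, K.iCycles p (l z) = z.1 := fun z => by
    rw [← ConcreteCategory.comp_apply, liftCycles_i]
    rfl
  have hinj : Function.Injective (K.iCycles p) := (AddCommGrpCat.mono_iff_injective _).1 inferInstance
  refine ⟨(l ≫ K.homologyπ p).hom, fun y => ?_, fun Φ z w hw => ?_, fun q hq u => ?_⟩
  · obtain ⟨c, hc⟩ := (AddCommGrpCat.epi_iff_surjective (K.homologyπ p)).1 inferInstance y
    have hck : K.iCycles p c ∈ AddMonoidHom.ker (K.d p (p + 1)).hom := by
      show (K.iCycles p ≫ K.d p (p + 1)) c = 0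
      rw [iCycles_d]; rfl
    refine ⟨⟨K.iCycles p c, hck⟩, ?_⟩
    show K.homologyπ p (l ⟨K.iCycles p c, hck⟩) = y
    rw [show l ⟨K.iCycles p c, hck⟩ = c from hinj (hli _), hc]
  · show K.homologyπ p (l w) = homologyMap Φ p (K.homologyπ p (l z))
    rw [← ConcreteCategory.comp_apply (K.homologyπ p), homologyπ_naturality,
      ConcreteCategory.comp_apply]
    refine congrArg (K.homologyπ p) (hinj ?_)
    rw [hli, ← ConcreteCategory.comp_apply (cyclesMap _ p), cyclesMap_i, ConcreteCategory.comp_apply,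
      hli]
    exact hw
  · have h : K.d q p u ∈ AddMonoidHom.ker (K.d p (p + 1)).hom :=
      ConcreteCategory.congr_hom (K.d_comp_d q p (p + 1)) u
    refine ⟨h, ?_⟩
    show K.homologyπ p (l ⟨_, h⟩) = 0
    rw [show l ⟨_, h⟩ = K.toCycles q p u from hinj ((hli _).trans (by
      rw [← ConcreteCategory.comp_apply, toCycles_i]))]
    rw [← ConcreteCategory.comp_apply, toCycles_comp_homologyπ]
    rfl

end Groth.Agent.CechLinear

namespace Groth.Agent.CechLinear

open Groth.Agent.QCohBase

variable {A : Type u} [CommRing A] {X : Scheme.{u}} [X.Over (Spec (CommRingCat.of A))]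
  {ι : Type u} (V : ι → X.Opens) (M : X.Modules) [Coh.IsQCoh M]

/-- The scalar action on cochains. -/
def smulCoch (a : A) {p : ℕ} (s : cochain V (Coh.toAb M).obj (Fin (p + 1))) :
    cochain V (Coh.toAb M).obj (Fin (p + 1)) := fun i =>
  (Coh.smulAb M (Coh.toGlobal (X ↘ Spec (CommRingCat.of A)) a)).hom.app (op (inter V i)) (s i)

/-- Finiteness of cohomology from the Cech complex. -/
theorem finite_HH_of_cech [IsNoetherianRing A] (hcov : ⨆ k, V k = ⊤)
    (hV : ∀ (n : ℕ) (i : Fin (n + 1) → ι), IsAffineOpen (inter V i)) (p : ℕ)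
    {N : Type u} [AddCommGroup N] [Module A N] [Module.Finite A N]
    (θ : N →+ cochain V (Coh.toAb M).obj (Fin (p + 1)))
    (hθ : ∀ (a : A) (x : N), θ (a • x) = smulCoch V M a (θ x))
    (hgen : ∀ s : cochain V (Coh.toAb M).obj (Fin (p + 1)), dCech V (Coh.toAb M).obj p s = 0 →
      ∃ x : N, s = θ x ∨ ∃ (q : ℕ) (h : q + 1 = p)
        (u : cochain V (Coh.toAb M).obj (Fin (q + 1))),
          s = θ x + h ▸ dCech V (Coh.toAb M).obj q u) :
    Module.Finite A (Coh.HH X M p) := by
  obtain ⟨e, he⟩ := exists_cech_equiv V (S := affineSystem X) (acyclic_of_isQCoh M) hcov hV p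
  obtain ⟨ψ, hψ, hnat, hbd⟩ := exists_cycleMap (cech V (Coh.toAb M).obj) p
  have hsmul : ∀ (a : A) (z w : AddMonoidHom.ker ((cech V (Coh.toAb M).obj).d p (p + 1)).hom),
      w.1 = smulCoch V M a z.1 → e (ψ w) = a • (show Coh.HH X M p from e (ψ z)) := fun a z w hw => by
    rw [hnat ((cechSheafFunctor V).map
      (Coh.smulAb M (Coh.toGlobal (X ↘ Spec (CommRingCat.of A)) a))) z w hw]
    exact he _ _
  let N' : Submodule A N :=
    { carrier := {x | dCech V (Coh.toAb M).obj p (θ x) = 0}
      add_mem' := fun {a b} ha hb => by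
        change dCech V (Coh.toAb M).obj p (θ a) = 0 at ha
        change dCech V (Coh.toAb M).obj p (θ b) = 0 at hb
        change dCech V (Coh.toAb M).obj p (θ (a + b)) = 0
        rw [map_add, ← cech_d_apply]
        exact (map_add ((cech V (Coh.toAb M).obj).d p (p + 1)).hom _ _).trans
          (by rw [cech_d_apply, cech_d_apply, ha, hb]; exact add_zero (0 : cochain V (Coh.toAb M).obj (Fin (p + 2))))
      zero_mem' := by
        change dCech V (Coh.toAb M).obj p (θ 0) = 0
        rw [map_zero, ← cech_d_apply]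
        exact map_zero ((cech V (Coh.toAb M).obj).d p (p + 1)).hom
      smul_mem' := fun a x hx => by
        change dCech V (Coh.toAb M).obj p (θ x) = 0 at hx
        change dCech V (Coh.toAb M).obj p (θ (a • x)) = 0
        rw [hθ]
        refine (dCech_map V (Coh.smulAb M
          (Coh.toGlobal (X ↘ Spec (CommRingCat.of A)) a)).hom p (θ x)).trans ?_
        funext i
        rw [hx]
        exact map_zero _ }
  haveI : Module.Finite A N' := by
    haveI : IsNoetherian A N := isNoetherian_of_isNoetherianRing_of_finite A N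
    infer_instance
  have hker : ∀ x : N', θ x.1 ∈ AddMonoidHom.ker ((cech V (Coh.toAb M).obj).d p (p + 1)).hom :=
    fun x => (cech_d_apply V _ p (θ x.1)).trans x.2
  let L : N' →ₗ[A] Coh.HH X M p :=
    { toFun := fun x => e (ψ ⟨θ x.1, hker x⟩)
      map_add' := fun a b => by
        rw [← map_add e, ← map_add ψ]
        exact congrArg (fun z => e (ψ z)) (Subtype.ext (map_add θ _ _))
      map_smul' := fun a x => hsmul a ⟨θ x.1, hker x⟩ ⟨θ (a • x.1), hker (a • x)⟩ (hθ a x.1) }
  refine Module.Finite.of_surjective L fun y => ?_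
  obtain ⟨⟨s, hs⟩, hy⟩ := hψ (e.symm y)
  obtain ⟨x, hx⟩ := hgen s ((cech_d_apply V _ p s).symm.trans hs)
  have hy' : e (ψ ⟨s, hs⟩) = y := by rw [hy, AddEquiv.apply_symm_apply]
  rcases hx with rfl | ⟨q, rfl, u, rfl⟩
  · exact ⟨⟨x, (cech_d_apply V _ p _).symm.trans hs⟩, hy'⟩
  · obtain ⟨hd, h0⟩ := hbd q rfl u
    have hd' : dCech V (Coh.toAb M).obj q u ∈
        AddMonoidHom.ker ((cech V (Coh.toAb M).obj).d (q + 1) (q + 1 + 1)).hom := by
      rw [← cech_d_apply]; exact hd
    have hθx : θ x ∈ AddMonoidHom.ker ((cech V (Coh.toAb M).obj).d (q + 1) (q + 1 + 1)).hom := by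
      have := sub_mem hs hd'
      exact (congrArg (· ∈ AddMonoidHom.ker ((cech V (Coh.toAb M).obj).d (q + 1) (q + 1 + 1)).hom)
        (add_sub_cancel_right (θ x) (dCech V (Coh.toAb M).obj q u))).mp this
    refine ⟨⟨x, (cech_d_apply V _ (q + 1) _).symm.trans hθx⟩, ?_⟩
    refine Eq.trans ?_ hy'
    show e (ψ ⟨θ x, _⟩) = _
    have h1 : ψ ⟨dCech V (Coh.toAb M).obj q u, hd'⟩ = 0 := by
      rw [← h0]
      exact congrArg ψ (Subtype.ext (cech_d_apply V _ q u).symm)
    refine congrArg e ?_
    refine Eq.trans ?_ ((map_add ψ ⟨θ x, hθx⟩ ⟨_, hd'⟩).symm.trans rfl)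
    rw [h1, add_zero]

/-- Vanishing of cohomology from the Cech complex. -/
theorem subsingleton_HH_of_cech (hcov : ⨆ k, V k = ⊤)
    (hV : ∀ (n : ℕ) (i : Fin (n + 1) → ι), IsAffineOpen (inter V i)) (p : ℕ)
    (h : ExactAtSucc V (Coh.toAb M).obj p) :
    Subsingleton (Coh.HH X M (p + 1)) := by
  obtain ⟨e, -⟩ := exists_cech_equiv V (S := affineSystem X) (acyclic_of_isQCoh M) hcov hV (p + 1)
  have hz := (exactAt_iff_isZero_homology _ _).1 ((exactAt_succ_iff V (Coh.toAb M).obj p).2 h)
  exact @Equiv.subsingleton _ _ e.symm.toEquiv (AddCommGrpCat.subsingleton_of_isZero hz)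

end Groth.Agent.CechLinear
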